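import Cfsg.Agent.CosetCert.Fi23Chain2.CheckLog0

/-! Generated: kernel checks combined. -/

set_option maxRecDepth 100000

namespace Cfsg.Agent.CosetCert.Fi23Chain2

theorem log_ok : ∀ i, i < 63655 → data.checkLog i = true := by
  have h0 : ∀ i, i < 0 → data.checkLog i = true := forall_lt_zero
  have h1 := forall_lt_step (b := 2500) h0 log_okAt0 rfl
  have h2 := forall_lt_step (b := 5000) h1 log_okAt2500 rfl
  have h3 := forall_lt_step (b := 7500) h2 log_okAt5000 rfl
  have h4 := forall_lt_step (b := 10000) h3 log_okAt7500 rfl
  have h5 := forall_lt_step (b := 12500) h4 log_okAt10000 rfl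
  have h6 := forall_lt_step (b := 15000) h5 log_okAt12500 rfl
  have h7 := forall_lt_step (b := 17500) h6 log_okAt15000 rfl
  have h8 := forall_lt_step (b := 20000) h7 log_okAt17500 rfl
  have h9 := forall_lt_step (b := 22500) h8 log_okAt20000 rfl
  have h10 := forall_lt_step (b := 25000) h9 log_okAt22500 rfl
  have h11 := forall_lt_step (b := 27500) h10 log_okAt25000 rfl
  have h12 := forall_lt_step (b := 30000) h11 log_okAt27500 rfl
  have h13 := forall_lt_step (b := 32500) h12 log_okAt30000 rfl
  have h14 := forall_lt_step (b := 35000) h13 log_okAt32500 rfl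
  have h15 := forall_lt_step (b := 37500) h14 log_okAt35000 rfl
  have h16 := forall_lt_step (b := 40000) h15 log_okAt37500 rfl
  have h17 := forall_lt_step (b := 42500) h16 log_okAt40000 rfl
  have h18 := forall_lt_step (b := 45000) h17 log_okAt42500 rfl
  have h19 := forall_lt_step (b := 47500) h18 log_okAt45000 rfl
  have h20 := forall_lt_step (b := 50000) h19 log_okAt47500 rfl
  have h21 := forall_lt_step (b := 52500) h20 log_okAt50000 rfl
  have h22 := forall_lt_step (b := 55000) h21 log_okAt52500 rfl
  have h23 := forall_lt_step (b := 57500) h22 log_okAt55000 rfl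
  have h24 := forall_lt_step (b := 60000) h23 log_okAt57500 rfl
  have h25 := forall_lt_step (b := 62500) h24 log_okAt60000 rfl
  have h26 := forall_lt_step (b := 63655) h25 log_okAt62500 rfl
  exact h26

end Cfsg.Agent.CosetCert.Fi23Chain2
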