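import Cfsg.Agent.CosetCert.Fi23Chain2.Defs

/-! Generated: kernel checks. -/

set_option Elab.async false

namespace Cfsg.Agent.CosetCert.Fi23Chain2

theorem coset_okAt0 : allFrom data.checkCoset 0 1000 = true := by decide +kernel

theorem coset_okAt1000 : allFrom data.checkCoset 1000 1000 = true := by decide +kernel

theorem coset_okAt2000 : allFrom data.checkCoset 2000 1000 = true := by decide +kernel

theorem coset_okAt3000 : allFrom data.checkCoset 3000 159 = true := by decide +kernel

end Cfsg.Agent.CosetCert.Fi23Chain2
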